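import Cfsg.Agent.Chars.Basic
import Cfsg.Agent.Chars.GaloisSum.Basic
import Cfsg.Agent.Chars.Induced.Relative
import Cfsg.Agent.Blocks.Basic.Principal
import Cfsg.Agent.Blocks.Covering.Basic
import Cfsg.Agent.Blocks.HeightZero.Covering
import Mathlib.GroupTheory.GroupAction.Quotient

/-!
# Principal blocks of a normal subgroup covered by the centraliser of a Sylow subgroup

If `N` is normal of index prime to `p` and `G = N C(P)`, restriction is a bijection between the
principal blocks (Alperin).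
-/

noncomputable section

open scoped ComplexConjugate

namespace CfsgLib.IsoBlocks

open Cfsg CfsgLib.Blocks CfsgLib.Chars.Induced

universe u

variable {G : Type u} [Group G] [Fintype G]

/-- A finite group is not the union of the conjugates of a proper subgroup. -/
theorem eq_top_of_forall_conj_mem (T : Subgroup G) (h : ∀ g : G, ∃ x : G, x⁻¹ * g * x ∈ T) :
    T = ⊤ := by
  classical
  have : Fintype (G ⧸ T) := Fintype.ofFinite _
  have : Fintype (Quotient (MulAction.orbitRel G (G ⧸ T))) := Fintype.ofFinite _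
  have hfix : ∀ a : G, 1 ≤ Fintype.card (MulAction.fixedBy (G ⧸ T) a) := by
    intro a
    obtain ⟨x, hx⟩ := h a
    refine Fintype.card_pos_iff.2 ⟨⟨(x : G ⧸ T), ?_⟩⟩
    rw [MulAction.mem_fixedBy]
    show ((a * x : G) : G ⧸ T) = (x : G ⧸ T)
    rw [QuotientGroup.eq]
    simpa [mul_assoc] using T.inv_mem hx
  have h1 := MulAction.sum_card_fixedBy_eq_card_orbits_mul_card_group G (G ⧸ T)
  have horb : Fintype.card (Quotient (MulAction.orbitRel G (G ⧸ T))) = 1 := by
    refine le_antisymm (Fintype.card_le_one_iff_subsingleton.2 ?_) (Fintype.card_pos)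
    exact (MulAction.pretransitive_iff_subsingleton_quotient G (G ⧸ T)).1 inferInstance
  rw [horb, one_mul, ← Finset.add_sum_erase _ _ (Finset.mem_univ (1 : G))] at h1
  have h2 : (Finset.univ.erase (1 : G)).card ≤
      ∑ a ∈ Finset.univ.erase (1 : G), Fintype.card (MulAction.fixedBy (G ⧸ T) a) := by
    rw [Finset.card_eq_sum_ones]
    exact Finset.sum_le_sum fun a _ => hfix a
  rw [Finset.card_erase_of_mem (Finset.mem_univ _), Finset.card_univ] at h2
  have h3 : Fintype.card (MulAction.fixedBy (G ⧸ T) (1 : G)) = T.index := by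
    rw [Subgroup.index_eq_card, ← Nat.card_eq_fintype_card]
    exact Nat.card_congr ((Equiv.setCongr (MulAction.fixedBy_one_eq_univ (G ⧸ T) G)).trans
      (Equiv.Set.univ _))
  rw [h3] at h1
  have h4 := T.index_ne_zero_of_finite
  have h5 := Fintype.card_pos (α := G)
  exact Subgroup.index_eq_one.1 (by omega)

variable {p : ℕ} [Fact p.Prime] {M : Ideal AlgInt}

/-- A character of the principal block is congruent to its degree, and in particular nonzero, on
elements centralising a Sylow subgroup. -/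
theorem congr_apply_centralizer (hM : IsPModular p M) (P : Sylow p G) {χ : IrrCharacter G}
    (hχ : χ ∈ principalBlock M G) {g : G}
    (hg : g ∈ Subgroup.centralizer ((P : Subgroup G) : Set G)) :
    (χ : G → ℂ) g ≠ 0 ∧ Congr M 1 ((χ : G → ℂ) g / (χ : G → ℂ) 1) := by
  have := isMaximal_of_isPModular hM
  set k := (Subgroup.centralizer ({g} : Set G)).index
  have hk : ¬ p ∣ k := fun h => P.not_dvd_index (h.trans (Subgroup.index_dvd_of_le fun a ha =>
    Subgroup.mem_centralizer_singleton_iff.2 (Subgroup.mem_centralizer_iff.1 hg a ha)))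
  have h1 : Congr M (k : ℂ) ((k : ℂ) * ((χ : G → ℂ) g / (χ : G → ℂ) 1)) := by
    have h := (mem_principalBlock_iff χ).1 hχ g
    rwa [centralChar, mul_div_assoc] at h
  refine ⟨fun h0 => hk ?_, ?_⟩
  · rw [h0, zero_div, mul_zero] at h1
    exact (memLocalIdeal_natCast_iff hM k).1 (memLocalIdeal_iff_congr_zero.2 h1)
  · have h2 := memLocalIdeal_mul_left (memLocalRing_inv_natCast hM hk) h1
    have hk0 : (k : ℂ) ≠ 0 := Nat.cast_ne_zero.2 fun h => hk (h ▸ dvd_zero p)
    rwa [mul_sub, inv_mul_cancel₀ hk0, inv_mul_cancel_left₀ hk0] at h2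

variable (N : Subgroup G) [N.Normal] [Fintype N]

omit [Fintype G] [Fintype N] [Fact p.Prime] in
theorem exists_mul_centralizer (P : Subgroup G)
    (hsup : N ⊔ Subgroup.centralizer (P : Set G) = ⊤) (g : G) :
    ∃ n ∈ N, ∃ c ∈ Subgroup.centralizer (P : Set G), n * c = g := by
  have h : g ∈ ((N ⊔ Subgroup.centralizer (P : Set G) : Subgroup G) : Set G) := by
    rw [hsup]; trivial
  rw [Subgroup.normal_mul] at h
  exact h

omit [Fact p.Prime] in
theorem mem_principalBlock_of_over (hM : IsPModular p M) {χ : IrrCharacter G}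
    (hχ : χ ∈ principalBlock M G) {θ : IrrCharacter N}
    (hθ : classInner (fun n : N => (χ : G → ℂ) n) (θ : N → ℂ) ≠ 0) : θ ∈ principalBlock M N := by
  have := isMaximal_of_isPModular hM
  have h0 : classInner (fun n : N => (CfsgLib.Chars.oneChar G : G → ℂ) n)
      (CfsgLib.Chars.oneChar N : N → ℂ) ≠ 0 := by
    rw [show (fun n : N => (CfsgLib.Chars.oneChar G : G → ℂ) n) =
      (CfsgLib.Chars.oneChar N : N → ℂ) from funext fun n => by simp, CfsgLib.Chars.classInner_self]
    exact one_ne_zero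
  have h1 := (CfsgLib.BlocksCover.constituent_iff_centralChar χ θ).1 hθ
  have h2 := (CfsgLib.BlocksCover.constituent_iff_centralChar _ _).1 h0
  obtain ⟨x, hx⟩ := CfsgLib.BlocksCover.exists_sameBlock_conj (M := M)
    (θ := θ) (ψ := CfsgLib.Chars.oneChar N) fun n => by
      rw [← h1 n, ← h2 n]
      have hχ' : SameBlock M (CfsgLib.Chars.oneChar G : G → ℂ) (χ : G → ℂ) := by
        rw [CfsgLib.Chars.oneChar_coe]
        exact hχ
      exact sameBlock_symm hχ' (n : G)
  have hone : (conjIrr x (CfsgLib.Chars.oneChar N) : N → ℂ) = fun _ => 1 := funext fun n => by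
    simp [conjFun]
  rw [hone] at hx
  exact sameBlock_symm hx

theorem exists_over (hM : IsPModular p M) {θ : IrrCharacter N} (hθ : θ ∈ principalBlock M N) :
    ∃ χ ∈ principalBlock M G, classInner (fun n : N => (χ : G → ℂ) n) (θ : N → ℂ) ≠ 0 := by
  have := isMaximal_of_isPModular hM
  refine HeightZero.exists_over_of_covers hM isPBlock_principalBlock isPBlock_principalBlock
    oneChar_mem_principalBlock (θ₁ := CfsgLib.Chars.oneChar N) oneChar_mem_principalBlock ?_ hθ
  rw [show (fun n : N => (CfsgLib.Chars.oneChar G : G → ℂ) n) =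
    (CfsgLib.Chars.oneChar N : N → ℂ) from funext fun n => by simp, CfsgLib.Chars.classInner_self]
  exact one_ne_zero

theorem invariant_of_mem (hM : IsPModular p M) (P : Sylow p G)
    (hsup : N ⊔ Subgroup.centralizer ((P : Subgroup G) : Set G) = ⊤) {θ : IrrCharacter N}
    (hθ : θ ∈ principalBlock M N) : ∀ g : G, conjFun N g (θ : N → ℂ) = θ := by
  classical
  obtain ⟨χ, hχ, hover⟩ := exists_over N hM hθ
  have hNT : N ≤ inertia N (θ : N → ℂ) := le_inertia (CfsgLib.Chars.isClassFunction_coe θ)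
  have : Fintype (inertia N (θ : N → ℂ)) := Fintype.ofFinite _
  obtain ⟨ψ, -, hψ⟩ := exists_indFun_eq rfl hNT χ
    ((CfsgLib.BlocksCover.mult_ne_zero_iff χ θ).1 hover)
  have hT : inertia N (θ : N → ℂ) = ⊤ := by
    refine eq_top_of_forall_conj_mem _ fun g => ?_
    obtain ⟨n, hn, c, hc, rfl⟩ := exists_mul_centralizer N (P : Subgroup G) hsup g
    by_contra hcon
    push Not at hcon
    refine (congr_apply_centralizer hM P hχ hc).1 ?_
    rw [← hψ]
    refine indFun_eq_zero_of_forall _ fun x hx => hcon x ?_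
    rw [show x⁻¹ * (n * c) * x = (x⁻¹ * n * x) * (x⁻¹ * c * x) by group]
    refine mul_mem (hNT ?_) hx
    simpa using ‹N.Normal›.conj_mem n hn x⁻¹
  intro g
  exact mem_inertia.1 (hT ▸ Subgroup.mem_top g)

/-- The characters of the principal block restrict irreducibly. -/
theorem restrict_eq (hM : IsPModular p M) (P : Sylow p G)
    (hsup : N ⊔ Subgroup.centralizer ((P : Subgroup G) : Set G) = ⊤) {χ : IrrCharacter G}
    (hχ : χ ∈ principalBlock M G) :
    ∃ θ ∈ principalBlock M N, ∀ n : N, (χ : G → ℂ) n = (θ : N → ℂ) n := by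
  classical
  have : Fintype (G ⧸ N) := Fintype.ofFinite _
  obtain ⟨θ, hθ⟩ := CfsgLib.BlocksCover.exists_constituent χ N
  have hmem := mem_principalBlock_of_over N hM hχ hθ
  have hinv := invariant_of_mem N hM P hsup hmem
  set e := mult (fun n : N => (χ : G → ℂ) n) θ with he
  have he0 : e ≠ 0 := (CfsgLib.BlocksCover.mult_ne_zero_iff χ θ).1 hθ
  have hres := restrict_eq_of_invariant χ θ hinv he0
  -- the squared absolute value averaged over cosets is a character of the quotient
  set F : G → ℂ := fun g => (χ : G → ℂ) g * conj ((χ : G → ℂ) g) with hF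
  have hFch : IsCharacter G F := CfsgLib.Chars.isCharacter_mul (CfsgLib.Chars.isCharacter_coe χ)
    (CfsgLib.Chars.isCharacter_conj (CfsgLib.Chars.isCharacter_coe χ))
  have hFc : IsClassFunction G F := CfsgLib.Chars.isClassFunction_of_isCharacter hFch
  set A := cosetAvg N F with hA
  have hAc := cosetAvg_isClassFunction (N := N) hFc
  have hAch : IsCharacter (G ⧸ N) A := by
    have hcoef : ∀ β : IrrCharacter (G ⧸ N), ∃ m : ℕ, classInner A (β : G ⧸ N → ℂ) = m := by
      intro β
      rw [hA, classInner_cosetAvg]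
      exact CfsgLib.Chars.exists_nat_classInner' hFch (CfsgLib.Chars.isCharacter_comp
        (CfsgLib.Chars.isCharacter_coe β) (QuotientGroup.mk' N))
    choose m hm using hcoef
    rw [show A = _ from CfsgLib.Chars.eq_sum_classInner_smul hAc]
    refine CfsgLib.Chars.isCharacter_sum _ _ fun β _ => ?_
    rw [hm, Nat.cast_smul_eq_nsmul]
    exact CfsgLib.Chars.isCharacter_nsmul _ (CfsgLib.Chars.isCharacter_coe β)
  have hA0 : ∀ g : G, A (g : G ⧸ N) =
      (((Nat.card N : ℝ)⁻¹ * ∑ n : N, ‖(χ : G → ℂ) ((n : G) * g)‖ ^ 2 : ℝ) : ℂ) := by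
    intro g
    rw [hA, cosetAvg_mk]
    push_cast
    congr 1
    exact Finset.sum_congr rfl fun n _ => Complex.mul_conj' _
  have hne : ∀ q : G ⧸ N, A q ≠ 0 := by
    intro q
    obtain ⟨g, rfl⟩ := QuotientGroup.mk_surjective q
    rw [hA0, Complex.ofReal_ne_zero, mul_ne_zero_iff]
    refine ⟨inv_ne_zero (Nat.cast_ne_zero.2 Nat.card_pos.ne'), ?_⟩
    obtain ⟨n, hn, c, hc, rfl⟩ := exists_mul_centralizer N (P : Subgroup G) hsup g
    refine (Finset.sum_pos' (fun m _ => by positivity) ⟨⟨n⁻¹, N.inv_mem hn⟩, Finset.mem_univ _, ?_⟩).ne'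
    rw [show ((⟨n⁻¹, N.inv_mem hn⟩ : N) : G) * (n * c) = c by simp]
    exact pow_pos (norm_pos_iff.2 (congr_apply_centralizer hM P hχ hc).1) 2
  have hA1 : A 1 = (e : ℂ) ^ 2 := by
    rw [← QuotientGroup.mk_one, hA, cosetAvg_mk]
    have hres' : ∀ n : N, F (n : G) = ((e : ℂ) * (θ : N → ℂ) n) * conj ((e : ℂ) * (θ : N → ℂ) n) :=
      fun n => congrArg (fun z => z * conj z) (congrFun hres n)
    simp only [mul_one, hres', map_mul, map_natCast]
    have h := CfsgLib.Chars.classInner_self θ
    rw [classInner] at h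
    simp only [mul_mul_mul_comm (e : ℂ) _ (e : ℂ), ← Finset.mul_sum]
    linear_combination (e : ℂ) ^ 2 * h
  have hAsum : ∑ q : G ⧸ N, A q = Nat.card (G ⧸ N) := by
    have h : classInner A (CfsgLib.Chars.oneChar (G ⧸ N) : G ⧸ N → ℂ) = 1 := by
      rw [hA, classInner_cosetAvg, classInner, ← CfsgLib.Chars.classInner_self χ, classInner]
      simp [hF]
    rw [classInner, inv_mul_eq_iff_eq_mul₀ (Nat.cast_ne_zero.2 Nat.card_pos.ne'), mul_one] at h
    simpa using h
  have he1 : e = 1 := by
    have hb := CfsgLib.Chars.GaloisSum.card_le_sum_norm_char hAch (Finset.univ.erase 1)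
      (fun q hq k hk => Finset.mem_erase.2 ⟨fun h1 => Finset.ne_of_mem_erase hq
        ((powCoprime hk.symm).injective (h1.trans (one_pow k).symm)), Finset.mem_univ _⟩)
      fun q _ => hne q
    have hreal : ∀ q : G ⧸ N, ((‖A q‖ : ℝ) : ℂ) = A q := by
      intro q
      obtain ⟨g, rfl⟩ := QuotientGroup.mk_surjective q
      rw [hA0, Complex.norm_real, Real.norm_of_nonneg]
      positivity
    have hs : ((∑ q ∈ Finset.univ.erase (1 : G ⧸ N), ‖A q‖ : ℝ) : ℂ) + (e : ℂ) ^ 2 =
        Nat.card (G ⧸ N) := by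
      push_cast
      simp only [hreal]
      rw [← hA1, Finset.sum_erase_add _ _ (Finset.mem_univ _), hAsum]
    have hs' : (∑ q ∈ Finset.univ.erase (1 : G ⧸ N), ‖A q‖) + (e : ℝ) ^ 2 = (Nat.card (G ⧸ N) : ℝ) := by
      exact_mod_cast hs
    rw [Finset.card_erase_of_mem (Finset.mem_univ _), Finset.card_univ,
      ← Nat.card_eq_fintype_card, Nat.cast_sub Nat.card_pos, Nat.cast_one] at hb
    have h2 : (e : ℝ) ^ 2 ≤ 1 := by linarith
    have h3 : e ^ 2 ≤ 1 := by exact_mod_cast h2
    have := Nat.pow_le_one_iff (two_ne_zero) |>.1 h3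
    omega
  refine ⟨θ, hmem, fun n => ?_⟩
  have h := congrFun hres n
  simpa [← he, he1] using h

/-- Restriction is injective on the principal block. -/
theorem restrict_injective (hM : IsPModular p M) (hidx : ¬ p ∣ N.index) (P : Sylow p G)
    (hsup : N ⊔ Subgroup.centralizer ((P : Subgroup G) : Set G) = ⊤) {χ χ' : IrrCharacter G}
    (hχ : χ ∈ principalBlock M G) (hχ' : χ' ∈ principalBlock M G) (θ : IrrCharacter N)
    (h : ∀ n : N, (χ : G → ℂ) n = (θ : N → ℂ) n) (h' : ∀ n : N, (χ' : G → ℂ) n = (θ : N → ℂ) n) :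
    χ' = χ := by
  classical
  have := isMaximal_of_isPModular hM
  have : Fintype (G ⧸ N) := Fintype.ofFinite _
  obtain ⟨β, hβ⟩ := gallagher_exists χ θ h χ' (by
    rw [show (fun n : N => (χ' : G → ℂ) n) = (θ : N → ℂ) from funext h', mult_irr, if_pos rfl]
    exact one_ne_zero)
  have hβ1 : (β : G ⧸ N → ℂ) 1 = 1 := by
    have e1 := congrFun hβ 1
    rw [QuotientGroup.mk_one] at e1
    have e2 := h 1
    have e3 := h' 1
    simp only [OneMemClass.coe_one] at e2 e3
    rw [e2, e3] at e1
    exact mul_left_cancel₀ (CfsgLib.Chars.map_one_ne_zero θ) (e1.symm.trans (mul_one _).symm)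
  obtain ⟨l, rfl⟩ := CfsgLib.Chars.exists_linChar_eq β hβ1
  suffices hl : l = 1 by
    refine Subtype.ext (funext fun g => ?_)
    rw [congrFun hβ g, hl]
    simp
  refine MonoidHom.ext fun q => ?_
  obtain ⟨g, rfl⟩ := QuotientGroup.mk_surjective q
  obtain ⟨n, hn, c, hc, rfl⟩ := exists_mul_centralizer N (P : Subgroup G) hsup g
  rw [QuotientGroup.mk_mul, (QuotientGroup.eq_one_iff n).2 hn, one_mul]
  have hc1 := (congr_apply_centralizer hM P hχ hc).2
  have hc2 := (congr_apply_centralizer hM P hχ' hc).2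
  rw [congrFun hβ c, congrFun hβ 1, QuotientGroup.mk_one, hβ1, mul_one,
    CfsgLib.Chars.linChar_apply, mul_div_right_comm] at hc2
  -- a root of unity of order prime to `p` congruent to one is one
  have hmod : Congr M 1 ((l (c : G ⧸ N) : ℂˣ) : ℂ) := by
    refine hc2.trans ?_
    have hloc : MemLocalRing M ((l (c : G ⧸ N) : ℂˣ) : ℂ) :=
      memLocalRing_of_isIntegral
        (CfsgLib.Chars.isIntegral_apply (CfsgLib.Chars.isCharacter_coe (CfsgLib.Chars.linChar l)) _)
    have h3 := memLocalIdeal_mul_left hloc hc1.symm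
    rw [mul_sub, mul_one, mul_comm] at h3
    exact h3
  set ζ : ℂ := ((l (c : G ⧸ N) : ℂˣ) : ℂ)
  have hpow : ζ ^ N.index = 1 := by
    rw [← Units.val_pow_eq_pow_val, ← map_pow, N.index_eq_card, pow_card_eq_one', map_one,
      Units.val_one]
  refine Units.ext ?_
  show ζ = 1
  by_contra hne
  apply hidx
  have hsum : ∑ i ∈ Finset.range N.index, ζ ^ i = 0 := by
    rw [geom_sum_eq hne, hpow, sub_self, zero_div]
  have hall : ∀ i : ℕ, Congr M 1 (ζ ^ i) := by
    intro i
    induction i with
    | zero => rw [pow_zero]; exact congr_refl _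
    | succ i ih =>
      refine hmod.trans ?_
      have hloc : MemLocalRing M ζ := memLocalRing_of_isIntegral
        (CfsgLib.Chars.isIntegral_apply (CfsgLib.Chars.isCharacter_coe (CfsgLib.Chars.linChar l)) _)
      have h3 := memLocalIdeal_mul_left hloc ih
      rw [mul_sub, mul_one, ← pow_succ'] at h3
      exact h3
  have h4 := congr_sum (M := M) (Finset.range N.index) fun i _ => hall i
  rw [hsum, Finset.sum_const, Finset.card_range, nsmul_one] at h4
  exact (memLocalIdeal_natCast_iff hM _).1 (memLocalIdeal_iff_congr_zero.2 h4)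

end CfsgLib.IsoBlocks
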